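import Groth.Prelude.Def_DeltaF
import Mathlib.Algebra.Category.Grp.Abelian
import Mathlib.Algebra.Category.Grp.Colimits
import Mathlib.Algebra.Category.Grp.FilteredColimits
import Mathlib.Algebra.Category.Grp.EpiMono
import Mathlib.Algebra.Category.Grp.Ulift
import Mathlib.Algebra.Homology.ShortComplex.Ab
import Mathlib.Algebra.Homology.ShortComplex.ShortExact
import Mathlib.Algebra.Module.CharacterModule
import Mathlib.CategoryTheory.Limits.ConcreteCategory.Basic

/-!
# Isomorphism criteria for morphisms of delta-functors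
-/

universe v u w

open CategoryTheory CategoryTheory.Limits

namespace Groth.Agent.DeltaIso

section Colim

variable {J : Type v} [SmallCategory J] [IsFiltered J] {K : J ⥤ AddCommGrpCat.{w}} {c : Cocone K}
  (hc : IsColimit c)

include hc in
theorem exists_rep (y : c.pt) : ∃ (j : J) (x : K.obj j), c.ι.app j x = y := by
  let H : AddSubgroup c.pt :=
    { carrier := {y | ∃ (j : J) (x : K.obj j), c.ι.app j x = y}
      zero_mem' := ⟨IsFiltered.nonempty.some, 0, map_zero _⟩
      neg_mem' := fun {y} ⟨j, x, h⟩ => ⟨j, -x, by rw [map_neg, h]⟩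
      add_mem' := fun {y y'} ⟨j, x, h⟩ ⟨j', x', h'⟩ => by
        refine ⟨IsFiltered.max j j', K.map (IsFiltered.leftToMax j j') x + K.map (IsFiltered.rightToMax j j') x', ?_⟩
        rw [map_add, ← h, ← h']
        congr 1 <;>
          · rw [← ConcreteCategory.comp_apply, c.w] }
  have h0 : AddCommGrpCat.ofHom (QuotientAddGroup.mk' H) = (0 : c.pt ⟶ AddCommGrpCat.of (c.pt ⧸ H)) := by
    refine hc.hom_ext fun j => ?_
    ext x
    exact (QuotientAddGroup.eq_zero_iff _).mpr ⟨j, x, rfl⟩
  exact (QuotientAddGroup.eq_zero_iff _).mp (ConcreteCategory.congr_hom h0 y)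

include hc in
theorem exists_map_eq_zero {j : J} (x : K.obj j) (hx : c.ι.app j x = 0) :
    ∃ (k : J) (f : j ⟶ k), K.map f x = 0 := by
  let K' := K ⋙ AddCommGrpCat.uliftFunctor.{max v w, w}
  haveI : HasColimit K' := inferInstance
  haveI : PreservesFilteredColimitsOfSize.{v, v} (forget AddCommGrpCat.{max v w}) :=
    preservesFilteredColimitsOfSize_of_univLE.{max v w, max v w} _
  by_cases h : colimit.ι K' j (ULift.up x) = 0
  · rw [← map_zero (colimit.ι K' j).hom] at h
    obtain ⟨k, f, g, hfg⟩ := Concrete.colimit_exists_of_rep_eq K' (i := j) (j := j) (ULift.up x) 0 h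
    exact ⟨k, f, congrArg ULift.down (hfg.trans (map_zero _))⟩
  · exfalso
    obtain ⟨χ, hχ⟩ := CharacterModule.exists_character_apply_ne_zero_of_ne_zero h
    let d : Cocone K :=
      { pt := AddCommGrpCat.of (ULift.{w} (AddCircle (1 : ℚ)))
        ι :=
          { app := fun i => AddCommGrpCat.ofHom (AddEquiv.ulift.symm.toAddMonoidHom.comp
              (χ.comp ((colimit.ι K' i).hom.comp AddEquiv.ulift.symm.toAddMonoidHom)))
            naturality := fun i i' f => by
              ext z
              show (ULift.up (χ (colimit.ι K' i' (ULift.up (K.map f z)))) : ULift.{w} (AddCircle (1 : ℚ))) =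
                ULift.up (χ (colimit.ι K' i (ULift.up z)))
              rw [← colimit.w K' f]
              rfl } }
    apply hχ
    have := ConcreteCategory.congr_hom (hc.fac d j) x
    rw [ConcreteCategory.comp_apply, hx, map_zero] at this
    exact (congrArg ULift.down this).symm

end Colim

variable {C : Type u} [Category.{v} C] [Abelian C] {T T' : DeltaF.CohDeltaFunctor C AddCommGrpCat.{w} ℕ}
  (φ : T ⟶ T')

theorem shortExact {A M : C} (i : A ⟶ M) [Mono i] :
    (ShortComplex.mk i (cokernel.π i) (cokernel.condition i)).ShortExact :=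
  { exact := ShortComplex.exact_of_g_is_cokernel _ (cokernelIsCokernel i)
    mono_f := inferInstance
    epi_g := inferInstance }

theorem nat' (q : ℕ) {X Y : C} (f : X ⟶ Y) (x : (T.F q).obj X) :
    (φ.app q).app Y ((T.F q).map f x) = (T'.F q).map f ((φ.app q).app X x) :=
  NatTrans.naturality_apply (φ.app q) f x

theorem comm' {S : ShortComplex C} (hS : S.ShortExact) (q : ℕ) (x : (T.F q).obj S.X₃) :
    (φ.app (q + 1)).app S.X₁ (T.δ S hS q (q + 1) rfl x) =
      T'.δ S hS q (q + 1) rfl ((φ.app q).app S.X₃ x) :=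
  ConcreteCategory.congr_hom (φ.comm S hS q (q + 1) rfl) x

/-- Injectivity in degree zero. -/
theorem zero_injective (hT : T.ZeroMono) {A M : C} (i : A ⟶ M) [Mono i]
    (hM : Function.Injective ((φ.app 0).app M)) : Function.Injective ((φ.app 0).app A) := by
  intro x y hxy
  refine (AddCommGrpCat.mono_iff_injective _).mp (hT _ (shortExact i)) (hM ?_)
  exact (nat' φ 0 i x).trans ((congrArg _ hxy).trans (nat' φ 0 i y).symm)

/-- Surjectivity in every degree. -/
theorem surjective (q : ℕ) {A M : C} (i : A ⟶ M) [Mono i]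
    (hinj : Function.Injective ((φ.app q).app (cokernel i)))
    (α' : (T'.F q).obj A) (m : (T.F q).obj M) (hm : (φ.app q).app M m = (T'.F q).map i α') :
    ∃ a, (φ.app q).app A a - α' ∈ (AddMonoidHom.ker ((T'.F q).map i).hom) := by
  have hS := shortExact i
  have : (T.F q).map (cokernel.π i) m = 0 := by
    refine hinj ?_
    rw [map_zero, nat', hm, ← ConcreteCategory.comp_apply, ← Functor.map_comp, cokernel.condition,
      Functor.map_zero]
    rfl
  obtain ⟨a, ha⟩ := (ShortComplex.ab_exact_iff _).mp (T.exact₂ _ hS q) m this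
  refine ⟨a, ?_⟩
  show (T'.F q).map i _ = 0
  rw [map_sub, ← nat', sub_eq_zero, ← hm]
  exact congrArg _ ha

theorem zero_surjective (hT' : T'.ZeroMono) {A M : C} (i : A ⟶ M) [Mono i]
    (hM : Function.Surjective ((φ.app 0).app M))
    (hQ : Function.Injective ((φ.app 0).app (cokernel i))) : Function.Surjective ((φ.app 0).app A) := by
  intro α'
  obtain ⟨m, hm⟩ := hM ((T'.F 0).map i α')
  obtain ⟨a, ha⟩ := surjective φ 0 i hQ α' m hm
  refine ⟨a, sub_eq_zero.mp ?_⟩
  refine (AddCommGrpCat.mono_iff_injective _).mp (hT' _ (shortExact i)) ?_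
  exact (show (T'.F 0).map i _ = 0 from ha).trans (map_zero _).symm

/-- Injectivity in degree `q + 1` for an element killed in `M`. -/
theorem succ_eq_zero (q : ℕ) {A M : C} (i : A ⟶ M) [Mono i]
    (hM : Function.Surjective ((φ.app q).app M))
    (hQ : Function.Injective ((φ.app q).app (cokernel i)))
    (α : (T.F (q + 1)).obj A) (hi : (T.F (q + 1)).map i α = 0) (hα : (φ.app (q + 1)).app A α = 0) :
    α = 0 := by
  have hS := shortExact i
  obtain ⟨β, hβ⟩ := (ShortComplex.ab_exact_iff _).mp (T.exact₁ _ hS q (q + 1) rfl) α hi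
  have h1 : T'.δ _ hS q (q + 1) rfl ((φ.app q).app _ β) = 0 :=
    (comm' φ hS q β).symm.trans ((congrArg _ hβ).trans hα)
  obtain ⟨m', hm'⟩ := (ShortComplex.ab_exact_iff _).mp (T'.exact₃ _ hS q (q + 1) rfl) _ h1
  obtain ⟨m, rfl⟩ := hM m'
  have h2 : (T.F q).map (cokernel.π i) m = β := hQ ((nat' φ q (cokernel.π i) m).trans hm')
  rw [← hβ, ← h2]
  exact ConcreteCategory.congr_hom (T.comp_δ _ hS q (q + 1) rfl) m

/-- Surjectivity in degree `q + 1` for an element killed in `M`. -/
theorem succ_exists (q : ℕ) {A M : C} (i : A ⟶ M) [Mono i]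
    (hQ : Function.Surjective ((φ.app q).app (cokernel i)))
    (α' : (T'.F (q + 1)).obj A) (hi : (T'.F (q + 1)).map i α' = 0) :
    ∃ α, (φ.app (q + 1)).app A α = α' := by
  have hS := shortExact i
  obtain ⟨β', hβ'⟩ := (ShortComplex.ab_exact_iff _).mp (T'.exact₁ _ hS q (q + 1) rfl) α' hi
  obtain ⟨β, rfl⟩ := hQ β'
  exact ⟨T.δ _ hS q (q + 1) rfl β, (comm' φ hS q β).trans hβ'⟩

theorem succ_surjective (q : ℕ) {A M : C} (i : A ⟶ M) [Mono i]
    (hQ : Function.Surjective ((φ.app q).app (cokernel i)))
    (hinj : Function.Injective ((φ.app (q + 1)).app (cokernel i)))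
    (hM : Function.Surjective ((φ.app (q + 1)).app M)) :
    Function.Surjective ((φ.app (q + 1)).app A) := by
  intro α'
  obtain ⟨m, hm⟩ := hM ((T'.F (q + 1)).map i α')
  obtain ⟨a, ha⟩ := surjective φ (q + 1) i hinj α' m hm
  obtain ⟨α, hα⟩ := succ_exists φ q i hQ _ (show (T'.F (q + 1)).map i _ = 0 from ha)
  refine ⟨a - α, ?_⟩
  rw [map_sub, hα, sub_sub_cancel]

theorem succ_injective_of_map (q : ℕ) {A M : C} (i : A ⟶ M) [Mono i]
    (hM : Function.Surjective ((φ.app q).app M))
    (hQ : Function.Injective ((φ.app q).app (cokernel i)))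
    (hM1 : Function.Injective ((φ.app (q + 1)).app M)) :
    Function.Injective ((φ.app (q + 1)).app A) := by
  rw [injective_iff_map_eq_zero]
  intro α hα
  refine succ_eq_zero φ q i hM hQ α (hM1 ?_) hα
  rw [nat', hα, map_zero, map_zero]

end Groth.Agent.DeltaIso
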